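import Cfsg.Agent.Core.Basics
import Cfsg.Agent.FFStruct.Conj
import Cfsg.Agent.PushRed.RankOne

/-!
# Rank-one groups with a small split torus: the centre of a Sylow overgroup
-/

set_option autoImplicit false
set_option linter.unusedSectionVars false
set_option linter.style.haveILetI false

namespace Cfsg.Agent.RankOneCentre

open Subgroup

/-- What is used of a rank-one group in characteristic `p`: `U` and `U'` are opposite Sylow subgroups
and `t` is an element of the split torus of order dividing `p - 1` without fixed points on `U`. -/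
structure Borel (p : ℕ) (E : Type*) [Group E] where
  U : Subgroup E
  U' : Subgroup E
  t : E
  hU : IsPGroup p U
  idx : ¬ p ∣ U.index
  conj : ∃ w : E, U' = U.map (MulAut.conj w).toMonoidHom
  other : ∀ g : E, g ∉ normalizer (U : Set E) →
    ∃ u ∈ U, U.map (MulAut.conj g).toMonoidHom = U'.map (MulAut.conj u).toMonoidHom
  reg : ∀ u ∈ U, U'.map (MulAut.conj u).toMonoidHom = U' → u = 1
  ne : U' ≠ U
  gen : U ⊔ U' = ⊤
  cyc : ∃ g ∈ normalizer (U : Set E), ∀ x ∈ normalizer (U : Set E), ∃ j : ℕ, (g ^ j)⁻¹ * x ∈ U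
  tN : t ∈ normalizer (U : Set E)
  tp : t ^ (p - 1) = 1
  fix : ∀ u ∈ U, t * u * t⁻¹ = u → u = 1

variable {p : ℕ} [hpf : Fact p.Prime] {E F : Type*} [Group E] [Group F] [Finite E]

theorem map_conj_map (f : E →* F) (g : E) (A : Subgroup E) :
    (A.map (MulAut.conj g).toMonoidHom).map f = (A.map f).map (MulAut.conj (f g)).toMonoidHom := by
  rw [Subgroup.map_map, Subgroup.map_map]
  congr 1
  ext x
  simp

theorem pElement_mem {A : Subgroup E} {f : E →* F} (hA : IsPGroup p A)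
    (hc : f.ker ≤ center E) (hk : ¬ p ∣ Nat.card f.ker)
    {B : Subgroup E} (hB : IsPGroup p B) (h : B.map f ≤ A.map f) : B ≤ A := by
  intro b hb
  obtain ⟨a, ha, e⟩ := h ⟨b, hb, rfl⟩
  set c := a⁻¹ * b with hcdef
  have hcker : c ∈ f.ker := by rw [MonoidHom.mem_ker, hcdef, map_mul, map_inv, e, inv_mul_cancel]
  have hac : Commute a c := mem_center_iff.1 (hc hcker) a
  have hba : b = a * c := (mul_inv_cancel_left a b).symm
  obtain ⟨m, hm⟩ := hA ⟨a, ha⟩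
  obtain ⟨n, hn⟩ := hB ⟨b, hb⟩
  have hcp : c ^ p ^ (m + n) = 1 := by
    have h1 : a ^ p ^ (m + n) = 1 := by
      rw [pow_add, pow_mul, show a ^ p ^ m = 1 from congrArg Subtype.val hm, one_pow]
    have h2 : b ^ p ^ (m + n) = 1 := by
      rw [pow_add, mul_comm, pow_mul, show b ^ p ^ n = 1 from congrArg Subtype.val hn, one_pow]
    rw [hba, hac.mul_pow, h1, one_mul] at h2
    exact h2
  have h1 : orderOf c = 1 := by
    refine Nat.eq_one_of_dvd_coprimes (((Nat.Prime.coprime_iff_not_dvd hpf.out).2 hk).pow_left (m + n))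
      (orderOf_dvd_of_pow_eq_one hcp) ?_
    rw [← Subgroup.orderOf_mk _ hcker]
    exact orderOf_dvd_natCard _
  rw [hba, orderOf_eq_one_iff.1 h1, mul_one]
  exact ha

theorem Borel.isPGroup_conj (b : Borel p E) : IsPGroup p b.U' := by
  obtain ⟨w, hw⟩ := b.conj
  rw [hw]
  exact b.hU.map _

/-- Passing to a quotient by a central subgroup of order prime to `p`. -/
noncomputable def Borel.map (b : Borel p E) (f : E →* F) (hf : Function.Surjective f)
    (hc : f.ker ≤ center E) (hk : ¬ p ∣ Nat.card f.ker) : Borel p F where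
  U := b.U.map f
  U' := b.U'.map f
  t := f b.t
  hU := b.hU.map f
  idx := fun hd => b.idx (hd.trans (index_map_dvd _ hf))
  conj := by
    obtain ⟨w, hw⟩ := b.conj
    exact ⟨f w, by rw [hw, map_conj_map]⟩
  other := by
    intro g hg
    obtain ⟨x, rfl⟩ := hf g
    obtain ⟨u, hu, e⟩ := b.other x fun hx =>
      hg (le_normalizer_map f (mem_map_of_mem f hx))
    exact ⟨f u, mem_map_of_mem f hu, by rw [← map_conj_map, ← map_conj_map, e]⟩
  reg := by
    rintro _ ⟨u, hu, rfl⟩ e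
    rw [← map_conj_map] at e
    have h1 : b.U'.map (MulAut.conj u).toMonoidHom = b.U' :=
      le_antisymm (pElement_mem b.isPGroup_conj hc hk (b.isPGroup_conj.map _) e.le)
        (pElement_mem (b.isPGroup_conj.map _) hc hk b.isPGroup_conj e.ge)
    rw [b.reg u hu h1, map_one]
  ne := fun e => b.ne (le_antisymm (pElement_mem b.hU hc hk b.isPGroup_conj e.le)
    (pElement_mem b.isPGroup_conj hc hk b.hU e.ge))
  gen := by rw [← Subgroup.map_sup, b.gen, map_top_of_surjective f hf]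
  cyc := by
    obtain ⟨g, hg, hcy⟩ := b.cyc
    refine ⟨f g, le_normalizer_map f (mem_map_of_mem f hg), fun y hy => ?_⟩
    obtain ⟨x, rfl⟩ := hf y
    have hx : x ∈ normalizer (b.U : Set E) := by
      refine FFStruct.mem_normalizer_of_cj (eq_of_le_of_card_ge
        (pElement_mem b.hU hc hk (b.hU.map _) ?_) (FFStruct.card_cj x b.U).ge)
      rw [map_conj_map]
      exact (FFStruct.cj_of_mem_normalizer hy).le
    obtain ⟨j, hj⟩ := hcy x hx
    exact ⟨j, ⟨_, hj, by simp⟩⟩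
  tN := le_normalizer_map f (mem_map_of_mem f b.tN)
  tp := by rw [← map_pow, b.tp, map_one]
  fix := by
    rintro _ ⟨u, hu, rfl⟩ e
    have hd : b.t * u * b.t⁻¹ * u⁻¹ ∈ b.U := mul_mem ((mem_normalizer_iff.1 b.tN u).1 hu) (inv_mem hu)
    have h1 : b.t * u * b.t⁻¹ * u⁻¹ ∈ (⊥ : Subgroup E) := by
      have h2 : f (b.t * u * b.t⁻¹ * u⁻¹) ∈ (⊥ : Subgroup E).map f := by
        rw [Subgroup.map_bot, mem_bot, map_mul, map_mul, map_mul, map_inv, map_inv, e, mul_inv_cancel]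
      refine pElement_mem (IsPGroup.of_bot) hc hk (b.hU.to_le (zpowers_le.2 hd)) ?_ (mem_zpowers _)
      rw [MonoidHom.map_zpowers, zpowers_le]
      exact h2
    rw [b.fix u hu (mul_inv_eq_one.1 (mem_bot.1 h1)), map_one]

/-- An automorphism of `p`-power order of the normalizer of `U` centralises `t` modulo `U`. -/
theorem Borel.conj_t {P : Type*} [Group P] [Finite P] {E₀ : Subgroup P} [hE : E₀.Normal]
    (b : Borel p ↥E₀) {s : P} (hs : ∃ k, s ^ p ^ k = 1)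
    (hsU : ∀ a : ↥E₀, a ∈ b.U → (MulAut.conjNormal s a : ↥E₀) ∈ b.U) :
    (MulAut.conjNormal s b.t : ↥E₀) * b.t⁻¹ ∈ b.U := by
  classical
  set N := normalizer (b.U : Set ↥E₀) with hN
  set φ : MulAut ↥E₀ := MulAut.conjNormal s with hφ
  have hφU : b.U.map φ.toMonoidHom = b.U := by
    refine eq_of_le_of_card_ge ?_ (card_map_of_injective φ.injective).ge
    rintro _ ⟨a, ha, rfl⟩
    exact hsU a ha
  have hφN : ∀ a ∈ N, φ a ∈ N := by
    intro a ha
    refine FFStruct.mem_normalizer_of_cj (eq_of_le_of_card_ge ?_ (FFStruct.card_cj _ b.U).ge)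
    rintro _ ⟨x, hx, rfl⟩
    obtain ⟨x', hx', rfl⟩ := hφU.ge hx
    show φ a * φ x' * (φ a)⁻¹ ∈ b.U
    rw [← map_inv, ← map_mul, ← map_mul]
    exact hsU _ ((mem_normalizer_iff.1 ha x').1 hx')
  set U₀ := b.U.subgroupOf N with hU₀
  haveI : U₀.Normal := Subgroup.normal_in_normalizer
  let π := QuotientGroup.mk' U₀
  haveI : IsCyclic (↥N ⧸ U₀) := by
    obtain ⟨g, hg, hcy⟩ := b.cyc
    refine ⟨⟨π ⟨g, hg⟩, fun y => ?_⟩⟩
    obtain ⟨x, rfl⟩ := QuotientGroup.mk'_surjective U₀ y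
    obtain ⟨j, hj⟩ := hcy x x.2
    refine ⟨j, ?_⟩
    show π ⟨g, hg⟩ ^ (j : ℤ) = π x
    rw [zpow_natCast, ← map_pow]
    exact QuotientGroup.eq.2 hj
  let ψ : ↥N →* ↥N := (φ.toMonoidHom.comp N.subtype).codRestrict N fun a => hφN a a.2
  let σ : (↥N ⧸ U₀) →* (↥N ⧸ U₀) := QuotientGroup.map U₀ U₀ ψ fun a ha => hsU a ha
  obtain ⟨m, hm⟩ := σ.map_cyclic
  set τ : ↥N ⧸ U₀ := π ⟨b.t, b.tN⟩ with hτ
  have hiter : ∀ n : ℕ, ∀ a : ↥N,
      (τ ^ (m ^ n) = π a → σ (π a) = τ ^ (m ^ (n + 1))) := fun n a e => by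
    rw [← e, hm, ← zpow_mul, pow_succ]
  have hφn : ∀ n : ℕ, ∃ a : ↥N, (a : ↥E₀) = (φ ^ n) b.t ∧ τ ^ (m ^ n) = π a := by
    intro n
    induction n with
    | zero => exact ⟨⟨b.t, b.tN⟩, rfl, by rw [pow_zero, zpow_one]⟩
    | succ n ih =>
      obtain ⟨a, ha, e⟩ := ih
      refine ⟨ψ a, ?_, (hiter n a e).symm⟩
      show φ (a : ↥E₀) = _
      rw [ha, pow_succ', MulAut.mul_apply]
  obtain ⟨k, hk⟩ := hs
  obtain ⟨a, ha, e⟩ := hφn (p ^ k)
  rw [hφ, ← map_pow, hk, map_one, MulAut.one_apply] at ha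
  rw [show a = ⟨b.t, b.tN⟩ from Subtype.ext ha] at e
  change τ ^ (m ^ p ^ k) = τ at e
  set d := orderOf τ with hd
  have hdp : d ∣ p - 1 := orderOf_dvd_of_pow_eq_one (by
    rw [hτ, ← map_pow, show (⟨b.t, b.tN⟩ : ↥N) ^ (p - 1) = 1 from Subtype.ext b.tp, map_one])
  have hdpos : 0 < d := orderOf_pos τ
  haveI : NeZero d := ⟨hdpos.ne'⟩
  have hmd : ((m : ℤ) : ZMod d) ^ p ^ k = 1 := by
    have h1 : τ ^ (m ^ p ^ k - 1) = 1 := by rw [zpow_sub, e, zpow_one, mul_inv_cancel]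
    have h2 : (d : ℤ) ∣ m ^ p ^ k - 1 := orderOf_dvd_iff_zpow_eq_one.2 h1
    rw [← ZMod.intCast_zmod_eq_zero_iff_dvd, Int.cast_sub, Int.cast_pow, Int.cast_one, sub_eq_zero] at h2
    exact h2
  have hm1 : ((m : ℤ) : ZMod d) = 1 := by
    let u : (ZMod d)ˣ := Units.ofPowEqOne _ _ hmd (pow_ne_zero k hpf.out.ne_zero)
    have hu : u ^ p ^ k = 1 := Units.ext hmd
    have h3 : Nat.Coprime (p ^ k) (Nat.card (ZMod d)ˣ) := by
      refine Nat.Coprime.pow_left k ((Nat.Prime.coprime_iff_not_dvd hpf.out).2 fun hpd => ?_)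
      have h4 := Nat.le_of_dvd Nat.card_pos hpd
      rw [Nat.card_eq_fintype_card, ZMod.card_units_eq_totient] at h4
      have h5 := Nat.le_of_dvd (by have := hpf.out.two_le; omega) hdp
      have h6 := Nat.totient_le d
      have := hpf.out.two_le
      omega
    have h7 : u = 1 := orderOf_eq_one_iff.1 (Nat.eq_one_of_dvd_coprimes h3
      (orderOf_dvd_of_pow_eq_one hu) (orderOf_dvd_natCard u))
    exact congrArg Units.val h7
  have hστ : σ τ = τ := by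
    rw [hm]
    have h2 : (d : ℤ) ∣ m - 1 := by
      rw [← ZMod.intCast_zmod_eq_zero_iff_dvd, Int.cast_sub, hm1, Int.cast_one, sub_self]
    have h3 := orderOf_dvd_iff_zpow_eq_one.1 h2
    rw [zpow_sub, zpow_one, mul_inv_eq_one] at h3
    exact h3
  have h8 : π (⟨b.t, b.tN⟩ : ↥N) = π (ψ ⟨b.t, b.tN⟩) := hστ.symm
  have h9' : (⟨b.t, b.tN⟩ : ↥N)⁻¹ * ψ ⟨b.t, b.tN⟩ ∈ U₀ := (QuotientGroup.eq (s := U₀)).1 h8
  have h9 : (b.t)⁻¹ * φ b.t ∈ b.U := h9'
  have h10 := (mem_normalizer_iff.1 b.tN _).1 h9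
  simpa [mul_assoc] using h10

/-- A central element of a Sylow subgroup of an overgroup of a rank-one group with trivial `O_p` that
commutes with the split torus normalising the Sylow subgroup is trivial. -/
theorem eq_one_of_central {P : Type*} [Group P] [Finite P] {E₀ : Subgroup P} [hE : E₀.Normal]
    (hOp : Cfsg.pCore p P = ⊥) (S : Sylow p P) (hSE : (S : Subgroup P) ⊔ E₀ = ⊤)
    (b : Borel p ↥E₀) (hbU : b.U = (S : Subgroup P).subgroupOf E₀) {z : P}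
    (hzS : z ∈ (S : Subgroup P)) (hz : z ∈ centralizer ((S : Subgroup P) : Set P))
    (hzN : ∀ h ∈ normalizer ((S : Subgroup P) : Set P), h ∈ E₀ → h * z * h⁻¹ = z) : z = 1 := by
  classical
  have hsU : ∀ s ∈ (S : Subgroup P), ∀ a : ↥E₀, a ∈ b.U → (MulAut.conjNormal s a : ↥E₀) ∈ b.U := by
    intro s hs a ha
    rw [hbU, mem_subgroupOf] at ha ⊢
    rw [MulAut.conjNormal_apply]
    exact mul_mem (mul_mem hs ha) (inv_mem hs)
  have hpp : ∀ s ∈ (S : Subgroup P), ∃ k, s ^ p ^ k = 1 := fun s hs =>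
    (S.2 ⟨s, hs⟩).imp fun k hk => congrArg Subtype.val hk
  have hfixz : ∀ a : ↥E₀, a ∈ b.U → (MulAut.conjNormal z a : ↥E₀) = a := fun a ha => Subtype.ext (by
    rw [MulAut.conjNormal_apply, ← mem_centralizer_iff.1 hz (a : P) (by rwa [hbU] at ha),
      mul_inv_cancel_right])
  set α : MulAut ↥E₀ := MulAut.conjNormal z with hα
  -- the image of the opposite subgroup
  obtain ⟨w, hw⟩ := b.conj
  have hαU : b.U.map α.toMonoidHom = b.U := by
    refine eq_of_le_of_card_ge ?_ (card_map_of_injective α.injective).ge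
    rintro _ ⟨a, ha, rfl⟩
    exact hsU z hzS a ha
  have hU'ne : b.U' ≠ b.U := b.ne
  have himg : b.U'.map α.toMonoidHom = b.U.map (MulAut.conj (α w)).toMonoidHom := by
    rw [hw, map_conj_map, hαU]
    rfl
  obtain ⟨u, hu, hue⟩ := b.other (α w) fun hN => hU'ne (by
    have h1 := FFStruct.cj_of_mem_normalizer hN
    change b.U.map _ = b.U at h1
    rw [← himg] at h1
    exact map_injective α.injective (h1.trans hαU.symm))
  rw [← himg] at hue
  -- `y = u⁻¹ z`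
  set y : P := (u : P)⁻¹ * z with hy
  have huS : (u : P) ∈ (S : Subgroup P) := by rwa [hbU] at hu
  have hyS : y ∈ (S : Subgroup P) := mul_mem (inv_mem huS) hzS
  set β : MulAut ↥E₀ := MulAut.conjNormal y with hβ
  have hβa : ∀ a : ↥E₀, β a = u⁻¹ * α a * u := fun a => Subtype.ext (by
    rw [hβ, hα, Subgroup.coe_mul, Subgroup.coe_mul, Subgroup.coe_inv, MulAut.conjNormal_apply,
      MulAut.conjNormal_apply, hy]
    group)
  have hβU' : b.U'.map β.toMonoidHom = b.U' := by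
    have e : β.toMonoidHom = (MulAut.conj u⁻¹).toMonoidHom.comp α.toMonoidHom := by
      ext a
      simp [hβa]
    rw [e, ← Subgroup.map_map, hue, Subgroup.map_map]
    conv_rhs => rw [← b.U'.map_id]
    congr 1
    ext a
    simp [mul_assoc]
  have hβN' : ∀ a : ↥E₀, a ∈ normalizer (b.U' : Set ↥E₀) → β a ∈ normalizer (b.U' : Set ↥E₀) := by
    intro a ha
    refine FFStruct.mem_normalizer_of_cj ?_
    show b.U'.map _ = b.U'
    conv_lhs => rw [← hβU']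
    rw [show (MulAut.conj (β a)).toMonoidHom = (MulAut.conj (β.toMonoidHom a)).toMonoidHom from rfl,
      ← map_conj_map β.toMonoidHom a, show b.U'.map (MulAut.conj a).toMonoidHom = b.U' from
      FFStruct.cj_of_mem_normalizer ha, hβU']
  -- the torus element normalising both
  have htU : ∀ x, x ∈ b.U → x ∈ normalizer (b.U' : Set ↥E₀) → x = 1 := fun x hx hxn =>
    b.reg x hx (FFStruct.cj_of_mem_normalizer hxn)
  obtain ⟨c, hc, hce⟩ : ∃ c ∈ b.U, c * b.t ∈ normalizer (b.U' : Set ↥E₀) := by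
    obtain ⟨c, hc, e⟩ : ∃ c ∈ b.U, b.U'.map (MulAut.conj b.t).toMonoidHom =
        b.U'.map (MulAut.conj c).toMonoidHom := by
      obtain ⟨c, hc, e⟩ := b.other (b.t * w) fun hN => hU'ne (by
        have h1 := (mul_mem_cancel_left b.tN).1 hN
        rw [hw]
        exact FFStruct.cj_of_mem_normalizer h1)
      refine ⟨c, hc, e ▸ ?_⟩
      rw [hw, Subgroup.map_map]
      congr 1
      ext a
      simp [mul_assoc]
    refine ⟨c⁻¹, inv_mem hc, FFStruct.mem_normalizer_of_cj ?_⟩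
    show b.U'.map _ = b.U'
    rw [show (MulAut.conj (c⁻¹ * b.t)).toMonoidHom =
      (MulAut.conj c⁻¹).toMonoidHom.comp (MulAut.conj b.t).toMonoidHom by ext a; simp [mul_assoc],
      ← Subgroup.map_map, e, Subgroup.map_map]
    conv_rhs => rw [← b.U'.map_id]
    congr 1
    ext a
    simp [mul_assoc]
  set h := c * b.t with hh
  have hhU : h ∈ normalizer (b.U : Set ↥E₀) := mul_mem (le_normalizer hc) b.tN
  have hmod : ∀ s ∈ (S : Subgroup P), (MulAut.conjNormal s h : ↥E₀) * h⁻¹ ∈ b.U := by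
    intro s hs
    have h1 := b.conj_t (hpp s hs) (hsU s hs)
    rw [hh, map_mul, mul_inv_rev,
      show ∀ x y : ↥E₀, x * y * (b.t⁻¹ * c⁻¹) = x * (y * b.t⁻¹) * c⁻¹ from fun x y => by group]
    exact mul_mem (mul_mem (hsU s hs c hc) h1) (inv_mem hc)
  have hβh : β h = h := mul_inv_eq_one.1
    (htU _ (hmod y hyS) (mul_mem (hβN' h hce) (inv_mem hce)))
  -- `u` is central in `U`
  have hβu : ∀ a ∈ b.U, β a = u⁻¹ * a * u := fun a ha => by rw [hβa, hα, hfixz a ha]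
  have hhconj : ∀ a ∈ b.U, h * a * h⁻¹ ∈ b.U := fun a ha => (mem_normalizer_iff.1 hhU a).1 ha
  set Zu : Subgroup ↥E₀ := b.U ⊓ centralizer (b.U : Set ↥E₀) with hZu
  set d := h * u * h⁻¹ * u⁻¹ with hd
  have hdZ : d ∈ Zu := by
    refine ⟨b.U.mul_mem (hhconj u hu) (b.U.inv_mem hu), mem_centralizer_iff.2 fun a ha => ?_⟩
    obtain ⟨a₀, ha₀, rfl⟩ : ∃ a₀ ∈ b.U, a = h * a₀ * h⁻¹ :=
      ⟨h⁻¹ * a * h, by simpa using (mem_normalizer_iff.1 (inv_mem hhU) a).1 ha, by group⟩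
    have e1 : β (h * a₀ * h⁻¹) = h * (β a₀) * h⁻¹ := by rw [map_mul, map_mul, map_inv, hβh]
    rw [hβu _ (hhconj a₀ ha₀), hβu a₀ ha₀] at e1
    calc h * a₀ * h⁻¹ * d = h * (a₀ * u) * h⁻¹ * u⁻¹ := by rw [hd]; group
      _ = h * (u * (u⁻¹ * a₀ * u)) * h⁻¹ * u⁻¹ := by group
      _ = h * u * h⁻¹ * (h * (u⁻¹ * a₀ * u) * h⁻¹) * u⁻¹ := by group
      _ = h * u * h⁻¹ * (u⁻¹ * (h * a₀ * h⁻¹) * u) * u⁻¹ := by rw [← e1]
      _ = d * (h * a₀ * h⁻¹) := by rw [hd]; group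
  have hZh : ∀ a ∈ Zu, h * a * h⁻¹ ∈ Zu := fun a ha => by
    refine ⟨hhconj a ha.1, mem_centralizer_iff.2 fun x hx => ?_⟩
    have h1 : h⁻¹ * x * h ∈ b.U := by simpa using (mem_normalizer_iff.1 (inv_mem hhU) x).1 hx
    calc x * (h * a * h⁻¹) = h * ((h⁻¹ * x * h) * a) * h⁻¹ := by group
      _ = h * (a * (h⁻¹ * x * h)) * h⁻¹ := by rw [mem_centralizer_iff.1 ha.2 _ h1]
      _ = h * a * h⁻¹ * x := by group
  have hfix0 : ∀ a ∈ b.U, h * a * h⁻¹ = a → a = 1 := by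
    intro a ha e
    let κ : ↥b.U → ↥b.U := fun v =>
      ⟨(v : ↥E₀) * (b.t * (v : ↥E₀)⁻¹ * b.t⁻¹), mul_mem v.2 ((mem_normalizer_iff.1 b.tN _).1 (inv_mem v.2))⟩
    have hκ : Function.Injective κ := by
      intro v v' e'
      have e'' : (v : ↥E₀) * (b.t * (v : ↥E₀)⁻¹ * b.t⁻¹) = (v' : ↥E₀) * (b.t * (v' : ↥E₀)⁻¹ * b.t⁻¹) :=
        congrArg Subtype.val e'
      have h1 : b.t * ((v' : ↥E₀)⁻¹ * v) * b.t⁻¹ = (v' : ↥E₀)⁻¹ * v := by
        calc b.t * ((v' : ↥E₀)⁻¹ * v) * b.t⁻¹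
            = (b.t * (v' : ↥E₀)⁻¹ * b.t⁻¹) * (b.t * (v : ↥E₀)⁻¹ * b.t⁻¹)⁻¹ := by group
          _ = (v' : ↥E₀)⁻¹ * ((v' : ↥E₀) * (b.t * (v' : ↥E₀)⁻¹ * b.t⁻¹)) *
              (b.t * (v : ↥E₀)⁻¹ * b.t⁻¹)⁻¹ := by group
          _ = (v' : ↥E₀)⁻¹ * ((v : ↥E₀) * (b.t * (v : ↥E₀)⁻¹ * b.t⁻¹)) *
              (b.t * (v : ↥E₀)⁻¹ * b.t⁻¹)⁻¹ := by rw [e'']
          _ = (v' : ↥E₀)⁻¹ * v := by group
      exact Subtype.ext (inv_mul_eq_one.1 (b.fix _ (mul_mem (inv_mem v'.2) v.2) h1)).symm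
    obtain ⟨v, hv⟩ := (Finite.injective_iff_surjective.1 hκ) ⟨c, hc⟩
    have hv' : (v : ↥E₀) * (b.t * (v : ↥E₀)⁻¹ * b.t⁻¹) = c := congrArg Subtype.val hv
    have h2 := b.fix ((v : ↥E₀)⁻¹ * a * v) (mul_mem (mul_mem (inv_mem v.2) ha) v.2) (by
      calc b.t * ((v : ↥E₀)⁻¹ * a * v) * b.t⁻¹
          = (v : ↥E₀)⁻¹ * (((v : ↥E₀) * (b.t * (v : ↥E₀)⁻¹ * b.t⁻¹) * b.t) * a *
              ((v : ↥E₀) * (b.t * (v : ↥E₀)⁻¹ * b.t⁻¹) * b.t)⁻¹) * v := by group
        _ = _ := by rw [hv', ← hh, e])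
    calc a = (v : ↥E₀) * ((v : ↥E₀)⁻¹ * a * v) * (v : ↥E₀)⁻¹ := by group
      _ = 1 := by rw [h2]; group
  have hcomm : ∀ a ∈ Zu, ∀ x ∈ b.U, a * x = x * a := fun a ha x hx =>
    (mem_centralizer_iff.1 ha.2 x hx).symm
  let δ : ↥Zu → ↥Zu := fun a =>
    ⟨h * (a : ↥E₀) * h⁻¹ * (a : ↥E₀)⁻¹, Zu.mul_mem (hZh a a.2) (Zu.inv_mem a.2)⟩
  have hδ : Function.Injective δ := by
    intro a a' e
    have e' : h * (a : ↥E₀) * h⁻¹ * (a : ↥E₀)⁻¹ = h * (a' : ↥E₀) * h⁻¹ * (a' : ↥E₀)⁻¹ :=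
      congrArg Subtype.val e
    have h1 : h * ((a' : ↥E₀)⁻¹ * a) * h⁻¹ = (a' : ↥E₀)⁻¹ * a := by
      have hc1 := hcomm _ (inv_mem a'.2) _ ((hZh a a.2).1)
      calc h * ((a' : ↥E₀)⁻¹ * a) * h⁻¹
          = (h * (a' : ↥E₀) * h⁻¹)⁻¹ * ((h * (a : ↥E₀) * h⁻¹ * (a : ↥E₀)⁻¹) * a) := by group
        _ = (h * (a' : ↥E₀) * h⁻¹)⁻¹ * ((h * (a' : ↥E₀) * h⁻¹ * (a' : ↥E₀)⁻¹) * a) := by rw [e']
        _ = (a' : ↥E₀)⁻¹ * a := by group
    have h2 := hfix0 _ (mul_mem (inv_mem a'.2.1) a.2.1) h1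
    exact Subtype.ext (inv_mul_eq_one.1 h2).symm
  obtain ⟨z₀, hz₀⟩ := (Finite.injective_iff_surjective.1 hδ) ⟨d, hdZ⟩
  have hz₀' : h * (z₀ : ↥E₀) * h⁻¹ * (z₀ : ↥E₀)⁻¹ = h * u * h⁻¹ * u⁻¹ := congrArg Subtype.val hz₀
  have huZ : u ∈ Zu := by
    have hm : (z₀ : ↥E₀)⁻¹ * u ∈ b.U := mul_mem (inv_mem z₀.2.1) hu
    have h1 : h * ((z₀ : ↥E₀)⁻¹ * u) * h⁻¹ = (z₀ : ↥E₀)⁻¹ * u := by
      calc h * ((z₀ : ↥E₀)⁻¹ * u) * h⁻¹
          = (h * (z₀ : ↥E₀) * h⁻¹)⁻¹ * ((h * u * h⁻¹ * u⁻¹) * u) := by group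
        _ = (h * (z₀ : ↥E₀) * h⁻¹)⁻¹ * ((h * (z₀ : ↥E₀) * h⁻¹ * (z₀ : ↥E₀)⁻¹) * u) := by rw [hz₀']
        _ = _ := by group
    rw [← inv_mul_eq_one.1 (hfix0 _ hm h1)]
    exact z₀.2
  -- `y` centralises `E₀`
  have hβfix : ∀ a ∈ b.U, β a = a := fun a ha => by
    rw [hβu a ha, mul_assoc, ← hcomm u huZ a ha, inv_mul_cancel_left]
  have hβfix' : ∀ a ∈ b.U', β a = a := by
    intro a ha
    have hβa' : β a ∈ b.U' := hβU'.le ⟨a, ha, rfl⟩
    have key : ∀ x ∈ b.U', x ∈ normalizer (b.U : Set ↥E₀) → x = 1 := by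
      intro x hx hxN
      have hxU : x ∈ b.U := by
        let T : Sylow p ↥E₀ := b.hU.toSylow b.idx
        have hsup : IsPGroup p (zpowers x ⊔ b.U : Subgroup ↥E₀) :=
          (b.isPGroup_conj.to_le (zpowers_le.2 hx)).to_sup_of_normal_right' b.hU (zpowers_le.2 hxN)
        exact (T.is_maximal' hsup le_sup_right).le (mem_sup_left (mem_zpowers x))
      exact b.reg x hxU (FFStruct.cj_of_mem_normalizer (le_normalizer hx))
    refine (inv_mul_eq_one.1 (key _ (mul_mem (inv_mem ha) hβa') ?_)).symm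
    by_cases haN : a ∈ normalizer (b.U : Set ↥E₀)
    · rw [key a ha haN, map_one, inv_one, mul_one]
      exact one_mem _
    obtain ⟨c₁, hc₁, e⟩ := b.other a haN
    have hβUU : b.U.map β.toMonoidHom = b.U := by
      refine eq_of_le_of_card_ge ?_ (card_map_of_injective β.injective).ge
      rintro _ ⟨x, hx, rfl⟩
      exact hsU y hyS x hx
    have e' := congrArg (Subgroup.map β.toMonoidHom) e
    rw [map_conj_map, map_conj_map, hβUU, hβU', show β.toMonoidHom c₁ = c₁ from hβfix c₁ hc₁, ← e] at e'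
    change b.U.map (MulAut.conj (β a)).toMonoidHom = _ at e'
    refine FFStruct.mem_normalizer_of_cj ?_
    show b.U.map _ = b.U
    rw [show (MulAut.conj (a⁻¹ * β a)).toMonoidHom =
      (MulAut.conj a⁻¹).toMonoidHom.comp (MulAut.conj (β a)).toMonoidHom by ext x; simp [mul_assoc],
      ← Subgroup.map_map, e', Subgroup.map_map]
    conv_rhs => rw [← b.U.map_id]
    congr 1
    ext x
    simp [mul_assoc]
  have hyC : y ∈ centralizer (E₀ : Set P) := by
    have hall : ∀ a : ↥E₀, β a = a := fun a => by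
      have hle : (⊤ : Subgroup ↥E₀) ≤ (β.toMonoidHom).eqLocus (MonoidHom.id _) :=
        b.gen.ge.trans (sup_le hβfix hβfix')
      exact hle (mem_top a)
    refine mem_centralizer_iff.2 fun a ha => ?_
    have h1 := congrArg Subtype.val (hall ⟨a, ha⟩)
    rw [hβ, MulAut.conjNormal_apply] at h1
    exact (mul_inv_eq_iff_eq_mul.1 h1).symm
  have hy1 : y = 1 := by
    set C := (S : Subgroup P) ⊓ centralizer (E₀ : Set P) with hC
    have hCn : C.Normal := by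
      refine normalizer_eq_top_iff.1 (top_le_iff.1 (hSE.ge.trans (sup_le ?_ ?_)))
      · intro s hs
        refine FFStruct.mem_normalizer_of_cj (eq_of_le_of_card_ge ?_ (FFStruct.card_cj s C).ge)
        rintro _ ⟨x, hx, rfl⟩
        exact ⟨(S : Subgroup P).mul_mem ((S : Subgroup P).mul_mem hs hx.1) ((S : Subgroup P).inv_mem hs),
          (inferInstance : (centralizer (E₀ : Set P)).Normal).conj_mem x hx.2 s⟩
      · refine le_trans ?_ (centralizer_le_normalizer _)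
        exact le_centralizer_iff.1 inf_le_right
    haveI := hCn
    have hle : C ≤ Cfsg.pCore p P := Core.le_pCore (S.2.to_le inf_le_left)
    rw [hOp] at hle
    exact mem_bot.1 (hle ⟨hyS, hyC⟩)
  have hzu : z = (u : P) := by
    rw [hy, inv_mul_eq_one] at hy1
    exact hy1.symm
  -- the torus element normalises `S`
  have hhS : (h : P) ∈ normalizer ((S : Subgroup P) : Set P) := by
    refine FFStruct.mem_normalizer_of_cj (eq_of_le_of_card_ge ?_ (FFStruct.card_cj _ _).ge)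
    rintro _ ⟨s, hs, rfl⟩
    have h1 := hmod s⁻¹ (inv_mem hs)
    rw [hbU, mem_subgroupOf, Subgroup.coe_mul, Subgroup.coe_inv, MulAut.conjNormal_apply, inv_inv] at h1
    have h2 := inv_mem (mul_mem hs h1)
    have e : ((s * (s⁻¹ * (h : P) * s * (h : P)⁻¹))⁻¹) = (h : P) * s⁻¹ * (h : P)⁻¹ := by group
    rw [e] at h2
    show (h : P) * s * (h : P)⁻¹ ∈ (S : Subgroup P)
    simpa [mul_assoc] using inv_mem h2
  have hfz := hzN _ hhS h.2
  rw [hzu] at hfz
  rw [hzu, hfix0 u hu (Subtype.ext hfz), OneMemClass.coe_one]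

end Cfsg.Agent.RankOneCentre
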