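import Cfsg.Agent.Classical.SL2Gen
import Cfsg.Agent.MinIndexPSU3.FreeBase
import Cfsg.Agent.RankOneCentre.Borel

/-!
# The rank-one models: SL₂, PSL₂, SU₃ and PSU₃
-/

set_option autoImplicit false
set_option linter.unusedSectionVars false
set_option linter.style.haveILetI false

namespace Cfsg.Agent.RankOneCentre

open Subgroup Matrix
open scoped MatrixGroups

theorem two_pow_sub_one {F : Type*} [Field F] (p : ℕ) [hp : Fact p.Prime] [CharP F p] (h2 : (2 : F) ≠ 0) :
    (2 : F) ^ (p - 1) = 1 := by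
  have h : (2 : F) ^ p = 2 := by
    rw [← one_add_one_eq_two, add_pow_char, one_pow]
  refine mul_right_cancel₀ h2 ?_
  rw [← pow_succ, Nat.sub_add_cancel hp.out.one_lt.le, h, one_mul]

theorem cast_ne_zero_of_lt {F : Type*} [Field F] (p : ℕ) [CharP F p] {n : ℕ} (h0 : 0 < n) (hn : n < p) :
    (n : F) ≠ 0 := fun e =>
  absurd (Nat.le_of_dvd h0 ((CharP.cast_eq_zero_iff F p n).1 e)) (by omega)

variable {p : ℕ} [hpf : Fact p.Prime] {E : Type*} [Group E] [Finite E]

theorem Borel.center_not_dvd (b : Borel p E) : ¬ p ∣ Nat.card (center E) := by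
  intro hd
  obtain ⟨z, hz⟩ := exists_prime_orderOf_dvd_card' (G := ↥(center E)) p hd
  have hzc : (z : E) ∈ center E := z.2
  have hzp : IsPGroup p (zpowers (z : E)) := IsPGroup.of_card (n := 1) (by
    rw [Nat.card_zpowers, Subgroup.orderOf_coe, hz, pow_one])
  have hzN : ∀ A : Subgroup E, A.map (MulAut.conj (z : E)).toMonoidHom = A := fun A => by
    conv_rhs => rw [← A.map_id]
    congr 1
    ext a
    show (z : E) * a * (z : E)⁻¹ = a
    rw [← mem_center_iff.1 hzc a, mul_inv_cancel_right]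
  have hzU : (z : E) ∈ b.U := by
    let T : Sylow p E := b.hU.toSylow b.idx
    have hsup : IsPGroup p (zpowers (z : E) ⊔ b.U : Subgroup E) :=
      hzp.to_sup_of_normal_right' b.hU (zpowers_le.2 (FFStruct.mem_normalizer_of_cj (hzN _)))
    exact (T.is_maximal' hsup le_sup_right).le (mem_sup_left (mem_zpowers _))
  rw [← orderOf_coe, b.reg _ hzU (hzN _), orderOf_one] at hz
  exact hpf.out.one_lt.ne hz

/-- The rank-one structure of the quotient by the centre. -/
theorem Borel.quot_center (b : Borel p E) : Nonempty (Borel p (E ⧸ center E)) :=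
  ⟨b.map (QuotientGroup.mk' (center E)) (QuotientGroup.mk'_surjective _) (by rw [QuotientGroup.ker_mk'])
    (by rw [QuotientGroup.ker_mk']; exact b.center_not_dvd)⟩

theorem exists_gen_of_hom {G A : Type*} [Group G] [Finite G] [CommGroup A] [IsCyclic A] {U N : Subgroup G}
    (χ : ↥N →* A) (hχ : ∀ x : ↥N, χ x = 1 → (x : G) ∈ U) :
    ∃ g ∈ N, ∀ x ∈ N, ∃ j : ℕ, (g ^ j)⁻¹ * x ∈ U := by
  haveI : Finite ↥χ.range := Finite.of_surjective _ χ.rangeRestrict_surjective
  obtain ⟨⟨_, g, rfl⟩, hg⟩ := IsCyclic.exists_generator (α := ↥χ.range)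
  refine ⟨g, g.2, fun x hx => ?_⟩
  obtain ⟨j, hj⟩ := mem_powers_iff_mem_zpowers.2 (hg ⟨χ ⟨x, hx⟩, ⟨_, rfl⟩⟩)
  exact ⟨j, hχ ((g ^ j)⁻¹ * ⟨x, hx⟩) (by
    rw [map_mul, map_inv, map_pow, show χ g ^ j = χ ⟨x, hx⟩ from congrArg Subtype.val hj, inv_mul_cancel])⟩

section SLTwo

variable {F : Type*} [Field F] [Fintype F] [CharP F p]


theorem mem_normalizer_root {g : SL(2, F)} : g ∈ normalizer ((Classical.rootHomSL (F := F)).range : Set SL(2, F)) ↔ g.1 1 0 = 0 := by
  constructor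
  · intro h
    obtain ⟨c, hc⟩ := (mem_normalizer_iff.1 h _).1 (MonoidHom.mem_range.2 ⟨Multiplicative.ofAdd 1, rfl⟩)
    have := congrArg (fun x : SL(2, F) => x.1 1 0) hc
    simp only [Classical.conj_rootHomSL, Classical.rootHomSL_coe] at this
    simpa using this.symm
  · intro h
    refine FFStruct.mem_normalizer_of_cj (eq_of_le_of_card_ge ?_ (FFStruct.card_cj g _).ge)
    rintro _ ⟨_, ⟨c, rfl⟩, rfl⟩
    exact ⟨_, (Classical.conj_rootHomSL_mem_of_upper h c).symm⟩

theorem mem_range_root {g : SL(2, F)} (h0 : g.1 1 0 = 0) (h1 : g.1 0 0 = 1) : g ∈ (Classical.rootHomSL (F := F)).range := by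
  have hd : g.1 0 0 * g.1 1 1 - g.1 0 1 * g.1 1 0 = 1 := by rw [← Matrix.det_fin_two]; exact g.2
  rw [h0, h1, one_mul, mul_zero, sub_zero] at hd
  refine ⟨Multiplicative.ofAdd (g.1 0 1), Subtype.ext ?_⟩
  rw [Classical.rootHomSL_coe]
  ext i j
  fin_cases i <;> fin_cases j <;> simp [h0, h1, hd]

theorem cj_cj (a b : E) (A : Subgroup E) :
    (A.map (MulAut.conj b).toMonoidHom).map (MulAut.conj a).toMonoidHom =
      A.map (MulAut.conj (a * b)).toMonoidHom := by
  rw [Subgroup.map_map]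
  congr 1
  ext x
  simp [mul_assoc]

theorem cj_eq_iff {a b : E} {A : Subgroup E} :
    A.map (MulAut.conj a).toMonoidHom = A.map (MulAut.conj b).toMonoidHom ↔
      b⁻¹ * a ∈ normalizer (A : Set E) := by
  constructor
  · intro e
    refine FFStruct.mem_normalizer_of_cj ?_
    show A.map _ = A
    rw [← cj_cj, e, cj_cj, inv_mul_cancel, map_one]
    exact A.map_id
  · intro h
    have h1 : A.map (MulAut.conj (b⁻¹ * a)).toMonoidHom = A := FFStruct.cj_of_mem_normalizer h
    conv_rhs => rw [← h1, cj_cj, mul_inv_cancel_left]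

/-- The rank-one structure of SL₂. -/
theorem borel_sl2 (hp : 5 ≤ p) : Nonempty (Borel p SL(2, F)) := by
  classical
  obtain ⟨P, hP⟩ := Classical.exists_sylow_rootSL (F := F) p
  set w : SL(2, F) := ⟨!![0, -1; 1, 0], by simp [Matrix.det_fin_two]⟩ with hw
  have hw10 : w.1 1 0 = 1 := rfl
  have hwN : w ∉ normalizer ((Classical.rootHomSL (F := F)).range : Set SL(2, F)) := fun h => by
    rw [mem_normalizer_root , hw10] at h
    exact one_ne_zero h
  have hwinv : ((w⁻¹ : SL(2, F)) : Matrix (Fin 2) (Fin 2) F) = !![0, 1; -1, 0] := by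
    rw [Matrix.SpecialLinearGroup.coe_inv, hw]
    simp [Matrix.adjugate_fin_two]
  have h2 : (2 : F) ≠ 0 := by exact_mod_cast cast_ne_zero_of_lt p (n := 2) (by norm_num) (by omega)
  have h3 : (3 : F) ≠ 0 := by exact_mod_cast cast_ne_zero_of_lt p (n := 3) (by norm_num) (by omega)
  set t : SL(2, F) := ⟨!![2, 0; 0, 2⁻¹], by simp [Matrix.det_fin_two, h2]⟩ with ht
  have htk : ∀ k : ℕ, ((t ^ k : SL(2, F)) : Matrix (Fin 2) (Fin 2) F) = !![2 ^ k, 0; 0, 2⁻¹ ^ k] := by
    intro k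
    induction k with
    | zero => simp [Matrix.one_fin_two]
    | succ k ih =>
      rw [pow_succ, Matrix.SpecialLinearGroup.coe_mul, ih, ht]
      simp [pow_succ]
  refine ⟨{
    U := (Classical.rootHomSL (F := F)).range
    U' := ((Classical.rootHomSL (F := F)).range).map (MulAut.conj w).toMonoidHom
    t := t
    hU := hP ▸ P.2
    idx := hP ▸ P.not_dvd_index
    conj := ⟨w, rfl⟩
    other := ?_
    reg := ?_
    ne := fun e => hwN (FFStruct.mem_normalizer_of_cj e)
    gen := ?_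
    cyc := ?_
    tN := mem_normalizer_root.2 rfl
    tp := ?_
    fix := ?_ }⟩
  · intro g hg
    rw [mem_normalizer_root ] at hg
    refine ⟨_, ⟨Multiplicative.ofAdd (g.1 0 0 / g.1 1 0), rfl⟩, ?_⟩
    rw [cj_cj, cj_eq_iff, mem_normalizer_root , _root_.mul_inv_rev, mul_assoc,
      Matrix.SpecialLinearGroup.coe_mul, hwinv, ← map_inv, Matrix.SpecialLinearGroup.coe_mul,
      Classical.rootHomSL_coe]
    simp [Matrix.mul_apply, Fin.sum_univ_two, Matrix.vecMul, dotProduct]
    field_simp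
    ring
  · rintro _ ⟨c, rfl⟩ e
    rw [cj_cj, cj_eq_iff, mem_normalizer_root , Matrix.SpecialLinearGroup.coe_mul, hwinv,
      Matrix.SpecialLinearGroup.coe_mul, Classical.rootHomSL_coe, hw] at e
    simp [Matrix.mul_apply, Fin.sum_univ_two] at e
    rw [show c = 1 from e, map_one]
  · have hne : P ≠ w • P := fun e => hwN (FFStruct.mem_normalizer_of_cj (by
      have h := congrArg (fun R : Sylow p SL(2, F) => (R : Subgroup SL(2, F))) e.symm
      simp only [Sylow.coe_subgroup_smul, hP] at h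
      exact h))
    have h := Classical.sylow_sl2_sup p P (w • P) hne
    rw [Sylow.coe_subgroup_smul, hP] at h
    exact h
  · let χ : ↥(normalizer ((Classical.rootHomSL (F := F)).range : Set SL(2, F))) →* Fˣ := MonoidHom.mk' (fun g => Units.mk0 (g.1.1 0 0) (by
      intro h0
      have hd : g.1.1 0 0 * g.1.1 1 1 - g.1.1 0 1 * g.1.1 1 0 = 1 := by rw [← Matrix.det_fin_two]; exact g.1.2
      rw [h0, mem_normalizer_root.1 g.2] at hd
      simp at hd)) fun a b => Units.ext (by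
        simp only [Units.val_mk0, Units.val_mul, Subgroup.coe_mul, Matrix.SpecialLinearGroup.coe_mul,
          Matrix.mul_apply, Fin.sum_univ_two, mem_normalizer_root.1 b.2, mul_zero, add_zero])
    exact exists_gen_of_hom χ fun x hx =>
      mem_range_root  (mem_normalizer_root.1 x.2) (congrArg Units.val hx)
  · refine Subtype.ext ?_
    rw [htk, two_pow_sub_one p h2, inv_pow, two_pow_sub_one p h2, inv_one, Matrix.SpecialLinearGroup.coe_one,
      Matrix.one_fin_two]
  · rintro _ ⟨c, rfl⟩ e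
    rw [Classical.conj_rootHomSL_mem_of_upper (show t.1 1 0 = 0 from rfl)] at e
    have e' := congrArg Multiplicative.toAdd (Classical.rootHomSL_injective e)
    rw [toAdd_ofAdd, show t.1 0 0 = 2 from rfl] at e'
    have h0 : c.toAdd * 3 = 0 := by linear_combination e'
    rw [show c = 1 from (mul_eq_zero.1 h0).resolve_right h3, map_one]

theorem borel_psl2 (hp : 5 ≤ p) : Nonempty (Borel p PSL(2, F)) := (borel_sl2 hp).some.quot_center

end SLTwo

section SUThree

open AutPSU MinIndexPSU3 Classical.Herm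

variable {q : ℕ} {F : Type*} [Field F] [Fintype F] {σ : F →+* F} (hu : UCtx σ q)
include hu

theorem mem_flag {v : Vn 3 F} (hv0 : v ≠ 0) (hv : hB 3 σ v v = 0) {g : Su 3 F q} :
    g ∈ flagFix σ v ↔ mat g *ᵥ v = v := by
  obtain ⟨m, f, h⟩ := exists_fr hu hv0 hv
  exact h.mem_flag_iff hu

theorem flag_smul {v : Vn 3 F} (hv0 : v ≠ 0) (hv : hB 3 σ v v = 0) {a : F} (ha : a ≠ 0) :
    flagFix (q := q) σ (a • v) = flagFix σ v := by
  ext g
  rw [mem_flag hu (smul_ne_zero ha hv0) (by rw [smul_self (hu.isHerm 3), hv, mul_zero]), mem_flag hu hv0 hv,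
    Matrix.mulVec_smul]
  exact ⟨fun h => smul_right_injective _ ha h, fun h => by rw [h]⟩

theorem cj_flag {v : Vn 3 F} (hv0 : v ≠ 0) (hv : hB 3 σ v v = 0) (s : Su 3 F q) :
    (flagFix (q := q) σ v).map (MulAut.conj s).toMonoidHom = flagFix σ (mat s *ᵥ v) := by
  ext g
  rw [mem_flag hu (mat_mulVec_ne_zero s hv0) (by rw [hB_mat hu]; exact hv)]
  constructor
  · rintro ⟨x, hx, rfl⟩
    simp only [MulEquiv.coe_toMonoidHom, MulAut.conj_apply]
    rw [mat_mul_mulVec, mat_mul_mulVec, mat_inv_mulVec, ((mem_flag hu hv0 hv).1 hx)]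
  · intro h
    refine ⟨s⁻¹ * g * s, (mem_flag hu hv0 hv).2 ?_, by simp [mul_assoc]⟩
    rw [mat_mul_mulVec, mat_mul_mulVec, h, mat_inv_mulVec]

variable {e m f : Vn 3 F}

theorem exists_ne_one (h : Fr σ e m f) : ∃ s ∈ flagFix (q := q) σ e, s ≠ 1 := by
  obtain ⟨κ, hκ0, hκ⟩ := skew_exists hu
  exact ⟨_, h.uE_mem hu (adm_zero.2 hκ), fun h1 => hκ0 ((h.uE_eq_one hu (adm_zero.2 hκ)).1 h1).2⟩

theorem eq_smul_of_flag_eq (h : Fr σ e m f) {v : Vn 3 F} (hv0 : v ≠ 0) (hv : hB 3 σ v v = 0)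
    (he : flagFix (q := q) σ v = flagFix σ e) : ∃ a : F, v = a • e := by
  obtain ⟨s, hs, hne⟩ := exists_ne_one hu h
  refine flag_fix_unique hu h hs hne hv0 hv ⟨1, ?_⟩
  rw [one_smul]
  exact (mem_flag hu hv0 hv).1 (he ▸ hs)

theorem normalizer_flag (h : Fr σ e m f) :
    normalizer (flagFix (q := q) σ e : Set (Su 3 F q)) = lineStab e := by
  ext g
  constructor
  · intro hg
    exact eq_smul_of_flag_eq hu h (mat_mulVec_ne_zero g h.hp.e_ne) (by rw [hB_mat hu]; exact h.hp.ee)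
      ((cj_flag hu h.hp.e_ne h.hp.ee g).symm.trans (FFStruct.cj_of_mem_normalizer hg))
  · rintro ⟨a, ha⟩
    refine FFStruct.mem_normalizer_of_cj ((cj_flag hu h.hp.e_ne h.hp.ee g).trans ?_)
    rw [ha, flag_smul hu h.hp.e_ne h.hp.ee fun h0 => mat_mulVec_ne_zero g h.hp.e_ne (by rw [ha, h0, zero_smul])]

theorem index_flag [CharP F p] (h : Fr σ e m f) {a : ℕ} (ha : 1 ≤ a) (hq : q = p ^ a) :
    ¬ p ∣ (flagFix (q := q) σ e).index := by
  classical
  have hU : IsPGroup p (flagFix (q := q) σ e) := fun x =>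
    ⟨2, Subtype.ext (flagFix_pow hu p (by omega) x.2)⟩
  obtain ⟨k, hk⟩ := hU.exists_card_eq
  set χ := lam (q := q) h.hp.e_ne with hχ
  have hker : Nat.card χ.ker ≤ Nat.card (flagFix (q := q) σ e) := by
    refine Nat.card_le_card_of_injective (fun x => ⟨x.1.1, (mem_flag hu h.hp.e_ne h.hp.ee).2 ?_⟩) ?_
    · have h1 := lam_spec (q := q) h.hp.e_ne x.1
      rw [show lam (q := q) h.hp.e_ne x.1 = 1 from x.2, Units.val_one, one_smul] at h1
      exact h1
    · intro x y e
      exact Subtype.ext (Subtype.ext (by simpa using e))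
  have hq2 : 2 ≤ q := hu.one_lt
  have hL : 0 < q ^ 2 - 1 := by
    have : 4 ≤ q ^ 2 := Nat.pow_le_pow_left hq2 2
    omega
  have hge : q ^ 3 ≤ p ^ k := by
    rw [← hk]
    have h1 := χ.ker.card_mul_index
    rw [card_lineStab hu h.hp.e_ne h.hp.ee, Subgroup.index_ker] at h1
    have h2 : Nat.card χ.range ≤ q ^ 2 - 1 := by
      rw [← card_F hu, ← Nat.card_units]
      exact Nat.card_le_card_of_injective _ Subtype.val_injective
    exact Nat.le_of_mul_le_mul_right ((h1.symm.le).trans (Nat.mul_le_mul hker h2)) hL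
  intro hd
  have h1 := (flagFix (q := q) σ e).card_mul_index
  rw [card_su hu, hk] at h1
  have h2 : p ^ (k + 1) ∣ q ^ 3 * ((q ^ 3 + 1) * (q ^ 2 - 1)) := by
    rw [show q ^ 3 * ((q ^ 3 + 1) * (q ^ 2 - 1)) = (q ^ 3 + 1) * (q ^ 3 * (q ^ 2 - 1)) by ring, ← h1, pow_succ]
    exact Nat.mul_dvd_mul_left _ hd
  have hpp := hpf.out
  have hpq : p ∣ q := hq ▸ dvd_pow_self p (by omega)
  have hco : Nat.Coprime (p ^ (k + 1)) ((q ^ 3 + 1) * (q ^ 2 - 1)) := by
    refine Nat.Coprime.pow_left _ (Nat.Coprime.mul_right ?_ ?_) <;>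
      refine (Nat.Prime.coprime_iff_not_dvd hpp).2 fun hdd => hpp.not_dvd_one ?_
    · exact (Nat.dvd_add_right (hpq.trans (dvd_pow_self q (by omega)))).1 hdd
    · have := Nat.dvd_sub (hpq.trans (dvd_pow_self q (two_ne_zero))) hdd
      rwa [Nat.sub_sub_self (by omega)] at this
  have h3 := Nat.le_of_dvd (by positivity) (hco.dvd_of_dvd_mul_right h2)
  exact absurd (h3.trans hge) (not_le.2 (Nat.pow_lt_pow_right hpp.one_lt (by omega)))

/-- The rank-one structure of SU₃. -/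
theorem borel_su3 [CharP F p] (hp : 5 ≤ p) {a : ℕ} (ha : 1 ≤ a) (hq : q = p ^ a) :
    Nonempty (Borel p (Su 3 F q)) := by
  classical
  obtain ⟨e, m, f, h⟩ := exists_frame_base hu
  obtain ⟨w, r, hr, hwr⟩ := exists_su_pt hu h.hp.e_ne h.hp.ee h.hp.f_ne h.hp.ff
  set U : Subgroup (Su 3 F q) := flagFix σ e with hU
  set U' : Subgroup (Su 3 F q) := flagFix σ f with hU'
  have hU'w : U' = U.map (MulAut.conj w).toMonoidHom := by
    rw [hU', hU, cj_flag hu h.hp.e_ne h.hp.ee, hwr, flag_smul hu h.hp.f_ne h.hp.ff hr]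
  have hfe : ¬ ∃ c : F, f = c • e := by
    rintro ⟨c, hc⟩
    have := h.hp.ef
    rw [hc, map_smul, h.hp.ee, smul_zero] at this
    exact zero_ne_one this
  have hconj : ∀ v : Vn 3 F, v ≠ 0 → hB 3 σ v v = 0 → (¬ ∃ c : F, v = c • e) →
      ∃ u ∈ U, flagFix (q := q) σ v = U'.map (MulAut.conj u).toMonoidHom := by
    intro v hv0 hv hne
    obtain ⟨u, hu', c, hc, huf⟩ := h.other hu hv0 hv hne
    exact ⟨u, hu', by rw [hU', cj_flag hu h.hp.f_ne h.hp.ff, huf, flag_smul hu hv0 hv hc]⟩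
  have h2 : (2 : F) ≠ 0 := by exact_mod_cast cast_ne_zero_of_lt p (n := 2) (by norm_num) (by omega)
  have h3 : (3 : F) ≠ 0 := by exact_mod_cast cast_ne_zero_of_lt p (n := 3) (by norm_num) (by omega)
  have hs2 : σ (2 : F) = 2 := map_ofNat σ 2
  obtain ⟨g, hge, hgf, -, hgd⟩ := h.hp.exists_dil hu h2
  rw [hs2, mul_inv_cancel₀ h2] at hgd
  obtain ⟨t, hts⟩ := exists_su_of_gu hu g hgd
  have hT : IsT σ e m f t 2 := (h.torus_of hu (r := (σ 2)⁻¹) (by rw [hts]; exact hge) (by rw [hts]; exact hgf)).2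
  have hTk : ∀ k : ℕ, IsT σ e m f (t ^ k) (2 ^ k) := by
    intro k
    induction k with
    | zero => refine ⟨?_, ?_, ?_⟩ <;> simp [mat_one_mulVec]
    | succ k ih =>
      rw [pow_succ, pow_succ]
      exact ih.mul hu hT
  refine ⟨{
    U := U
    U' := U'
    t := t
    hU := fun x => ⟨2, Subtype.ext (flagFix_pow hu p (by omega) x.2)⟩
    idx := index_flag hu h ha hq
    conj := ⟨w, hU'w⟩
    other := ?_
    reg := ?_
    ne := fun he => hfe (eq_smul_of_flag_eq hu h h.hp.f_ne h.hp.ff he)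
    gen := ?_
    cyc := ?_
    tN := ?_
    tp := ?_
    fix := ?_ }⟩
  · intro x hx
    rw [normalizer_flag hu h] at hx
    rw [hU, cj_flag hu h.hp.e_ne h.hp.ee]
    exact hconj _ (mat_mulVec_ne_zero x h.hp.e_ne) (by rw [hB_mat hu]; exact h.hp.ee) fun ⟨c, hc⟩ => hx ⟨c, hc⟩
  · intro u hu' he
    by_contra hne
    rw [hU', cj_flag hu h.hp.f_ne h.hp.ff] at he
    obtain ⟨c, hc⟩ := eq_smul_of_flag_eq hu (h.symm hu) (mat_mulVec_ne_zero u h.hp.f_ne)
      (by rw [hB_mat hu]; exact h.hp.ff) he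
    exact hfe (flag_fix_unique hu h hu' hne h.hp.f_ne h.hp.ff ⟨c, hc⟩)
  · have hq3 : ¬ ((3 : ℕ) = 3 ∧ q = 2) := fun hh => by
      have := Nat.le_of_dvd two_pos (hh.2 ▸ hq ▸ dvd_pow_self p (by omega : a ≠ 0))
      omega
    rw [eq_top_iff, ← Classical.closure_unitaryTransvection hu.toIsInvol hu.pow hu.card_fix (by norm_num) hq3,
      Subgroup.closure_le]
    rintro A ⟨v, c, hv, hA⟩
    have hAv : mat A *ᵥ v = v := by
      rw [show mat A = Cfsg.unitaryTransvection 3 q v c from hA, Classical.unitaryTransvection_mulVec hu.pow,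
        hv, mul_zero, zero_smul, add_zero]
    by_cases hv0 : v = 0
    · have hA1 : A = 1 := su_ext_mulVec fun x => by
        rw [show mat A = Cfsg.unitaryTransvection 3 q v c from hA, Classical.unitaryTransvection_mulVec hu.pow,
          hv0, smul_zero, add_zero, mat_one_mulVec]
      rw [hA1]
      exact one_mem _
    have hAf := (mem_flag hu hv0 hv).2 hAv
    by_cases hve : ∃ d : F, v = d • e
    · obtain ⟨d, rfl⟩ := hve
      rw [flag_smul hu h.hp.e_ne h.hp.ee (fun h0 => hv0 (by rw [h0, zero_smul]))] at hAf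
      exact mem_sup_left hAf
    · obtain ⟨u, hu', hue⟩ := hconj v hv0 hv hve
      rw [hue] at hAf
      obtain ⟨y, hy, rfl⟩ := hAf
      exact (U ⊔ U').mul_mem ((U ⊔ U').mul_mem (mem_sup_left hu') (mem_sup_right hy))
        ((U ⊔ U').inv_mem (mem_sup_left hu'))
  · rw [normalizer_flag hu h]
    exact exists_gen_of_hom (lam (q := q) h.hp.e_ne) fun x hx => (mem_flag hu h.hp.e_ne h.hp.ee).2 (by
      have h1 := lam_spec (q := q) h.hp.e_ne x
      rw [hx, Units.val_one, one_smul] at h1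
      exact h1)
  · rw [normalizer_flag hu h]
    exact ⟨2, hT.1⟩
  · have hk := hTk (p - 1)
    rw [two_pow_sub_one p h2] at hk
    exact h.isT_unique hu hk ⟨by simp [mat_one_mulVec], by simp [mat_one_mulVec], by simp [mat_one_mulVec]⟩
  · intro x hx hfx
    obtain ⟨hA, hxe⟩ := h.flag_coord hu hx
    rw [hxe] at hfx ⊢
    obtain ⟨hA', hconj'⟩ := h.uE_conj hu h2 hT hA
    rw [hconj'] at hfx
    obtain ⟨e1, e2⟩ := h.uE_inj hu hA' hA hfx
    rw [hs2] at e1 e2
    field_simp at e1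
    refine (h.uE_eq_one hu hA).2 ⟨?_, ?_⟩
    · linear_combination e1
    · exact (mul_eq_zero.1 (by linear_combination e2 : (3 : F) * hB 3 σ f (mat x *ᵥ f) = 0)).resolve_left h3

theorem borel_psu3 [CharP F p] (hp : 5 ≤ p) {a : ℕ} (ha : 1 ≤ a) (hq : q = p ^ a) :
    Nonempty (Borel p (Cfsg.PSU 3 F q)) := (borel_su3 hu hp ha hq).some.quot_center

end SUThree

end Cfsg.Agent.RankOneCentre
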